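import Groth.Agent.AlgSpc.FppfGlue
import Groth.Agent.AlgSpc.Basic
import Groth.Prelude.Def_StCurv2
import Mathlib.AlgebraicGeometry.Geometrically.Reduced
import Mathlib.FieldTheory.IsAlgClosed.AlgebraicClosure

/-!
# Geometric fibres of families over a field
-/

set_option autoImplicit false
set_option linter.style.haveILetI false
set_option backward.isDefEq.respectTransparency false
set_option backward.isDefEq.respectTransparency.types false

universe u

open CategoryTheory CategoryTheory.Limits AlgebraicGeometry

namespace Groth.Agent.GeomFibField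

open _root_.AlgSp

variable {S : Scheme.{u}} {k : Type u} [Field k] (t : Spec (CommRingCat.of k) ⟶ S)
  {X : Scheme.{u}} (p : X ⟶ Spec (CommRingCat.of k))

/-- The family over a field. -/
noncomputable abbrev fam : CurvSt.SpFamObj S 0 :=
  (CurvSt.toSpFam S 0).obj ⟨Over.mk t, X, p, Fin.elim0, fun i => i.elim0⟩

/-- A scheme-vertex square over a family over a field is a cartesian square of schemes. -/
theorem exists_isPullback {K : Type u} [Field K] (t' : Spec (CommRingCat.of K) ⟶ Spec (CommRingCat.of k))
    (X' : Scheme.{u}) (q : X' ⟶ Spec (CommRingCat.of K))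
    (i : (yon S).obj ((fam t p).ptOver (q ≫ t')) ⟶ (fam t p).X)
    (hP : IsPullback i ((yon S).map ((fam t p).fibHom t' q)) (fam t p).f
      ((yon S).map ((fam t p).ptHom t'))) :
    ∃ j : X' ⟶ X, IsPullback j q p t' := by
  let i₀ := AlgSpc.pre (U := (fam t p).ptOver (q ≫ t')) (V := Over.mk (p ≫ t)) i
  refine ⟨i₀.left, ?_⟩
  rw [← AlgSpc.map_pre (U := (fam t p).ptOver (q ≫ t')) (V := Over.mk (p ≫ t)) i] at hP
  exact Groth.Agent.AlgSpc.FppfDescent.isPullback_forget
    (IsPullback.of_map (yon S) ((yon S).map_injective (by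
      rw [Functor.map_comp, Functor.map_comp]; exact hP.w)) hP)

/-- Cartesian squares of schemes give scheme-vertex squares. -/
theorem exists_square {K : Type u} [Field K] {t' : Spec (CommRingCat.of K) ⟶ Spec (CommRingCat.of k)}
    {X' : Scheme.{u}} {q : X' ⟶ Spec (CommRingCat.of K)} {j : X' ⟶ X} (h : IsPullback j q p t') :
    ∃ i : (yon S).obj ((fam t p).ptOver (q ≫ t')) ⟶ (fam t p).X,
      IsPullback i ((yon S).map ((fam t p).fibHom t' q)) (fam t p).f
        ((yon S).map ((fam t p).ptHom t')) := by
  let j₀ : (fam t p).ptOver (q ≫ t') ⟶ Over.mk (p ≫ t) := Over.homMk j (by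
    change j ≫ p ≫ t = (q ≫ t') ≫ t
    rw [← Category.assoc, h.w])
  exact ⟨(yon S).map j₀, (IsPullback.of_map (Over.forget S) (Over.OverMorphism.ext h.w)
    (f := j₀) (g := (fam t p).fibHom t' q)
    (h := (Over.homMk p rfl : Over.mk (p ≫ t) ⟶ Over.mk t)) (i := (fam t p).ptHom t') h).map (yon S)⟩

/-- Geometric reducedness over a field read on geometric fibres. -/
theorem geomFib_isReduced_iff :
    CurvSt.GeomFib (fun _ _ _ X' _ _ => IsReduced X') (fam t p) ↔ GeometricallyReduced p := by
  refine ⟨fun h => ⟨fun K _ y Z fst snd hZ => ?_⟩, fun h Ω _ _ t' X' q i hP => ?_⟩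
  · let c : Spec (CommRingCat.of (AlgebraicClosure K)) ⟶ Spec (CommRingCat.of K) :=
      Spec.map (CommRingCat.ofHom (algebraMap K (AlgebraicClosure K)))
    haveI : Flat p := inferInstance
    haveI : Flat snd := MorphismProperty.of_isPullback (P := @Flat) hZ inferInstance
    haveI : Surjective c := ⟨fun x => ⟨IsLocalRing.closedPoint _, Subsingleton.elim _ _⟩⟩
    haveI : IsSchemeTheoreticallyDominant c := .of_isDominant _
    have sq := (IsPullback.of_hasPullback c snd).flip.paste_horiz hZ
    obtain ⟨i, hP⟩ := exists_square t p sq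
    haveI : IsReduced (pullback c snd) := h (AlgebraicClosure K) _ _ _ i hP
    exact IsSchemeTheoreticallyDominant.isReduced (pullback.snd c snd)
  · obtain ⟨j, hj⟩ := exists_isPullback t p t' X' q i hP
    exact h.geometrically_isReduced t' j q hj

end Groth.Agent.GeomFibField
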