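import Groth.Agent.GeomFibField.Basic
import Groth.Agent.FieldExtDim.Basic
import Mathlib.AlgebraicGeometry.Geometrically.Connected

/-!
# Connected geometric fibres over a field
-/

set_option autoImplicit false
set_option linter.style.haveILetI false
set_option backward.isDefEq.respectTransparency false
set_option backward.isDefEq.respectTransparency.types false

universe u

open CategoryTheory CategoryTheory.Limits AlgebraicGeometry

namespace Groth.Agent.GeomFibField

variable {S : Scheme.{u}} {k : Type u} [Field k] (t : Spec (CommRingCat.of k) ⟶ S)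
  {X : Scheme.{u}} (p : X ⟶ Spec (CommRingCat.of k))

theorem dim_eq_of_isPullback [LocallyOfFiniteType p] {K : Type u} [Field K]
    (t' : Spec (CommRingCat.of K) ⟶ Spec (CommRingCat.of k)) {X' : Scheme.{u}} {j : X' ⟶ X}
    {q : X' ⟶ Spec (CommRingCat.of K)} (h : IsPullback j q p t') :
    topologicalKrullDim ↥X' = topologicalKrullDim ↥X := by
  obtain ⟨φ, rfl⟩ := Spec.map_surjective t'
  algebraize [φ.hom]
  rw [← FieldExtDim.dim_pullback_field (k := k) (K := K) p]
  exact IsHomeomorph.topologicalKrullDim_eq _ h.isoPullback.hom.homeomorph.isHomeomorph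

/-- Reduced connected one-dimensional geometric fibres, read on the curve. -/
theorem geomFib_reduced_connected_dim_iff [LocallyOfFiniteType p] :
    CurvSt.GeomFib (fun _ _ _ X' _ _ => IsReduced X' ∧ ConnectedSpace ↥X' ∧ topologicalKrullDim ↥X' = 1)
      (fam t p) ↔
      GeometricallyReduced p ∧ GeometricallyConnected p ∧ topologicalKrullDim ↥X = 1 := by
  refine ⟨fun h => ⟨(geomFib_isReduced_iff t p).1 fun Ω _ _ t' X' q i hP => (h Ω t' X' q i hP).1,
    ⟨fun K _ y Z fst snd hZ => ?_⟩, ?_⟩, fun h Ω _ _ t' X' q i hP => ?_⟩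
  · let c : Spec (CommRingCat.of (AlgebraicClosure K)) ⟶ Spec (CommRingCat.of K) :=
      Spec.map (CommRingCat.ofHom (algebraMap K (AlgebraicClosure K)))
    haveI : Surjective c := ⟨fun x => ⟨IsLocalRing.closedPoint _, Subsingleton.elim _ _⟩⟩
    have sq := (IsPullback.of_hasPullback c snd).flip.paste_horiz hZ
    obtain ⟨i, hP⟩ := exists_square t p sq
    haveI : ConnectedSpace ↥(pullback c snd) := (h (AlgebraicClosure K) _ _ _ i hP).2.1
    haveI : Surjective (pullback.snd c snd) := MorphismProperty.pullback_snd _ _ inferInstance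
    exact (pullback.snd c snd).surjective.connectedSpace (pullback.snd c snd).continuous
  · let c : Spec (CommRingCat.of (AlgebraicClosure k)) ⟶ Spec (CommRingCat.of k) :=
      Spec.map (CommRingCat.ofHom (algebraMap k (AlgebraicClosure k)))
    have sq := IsPullback.of_hasPullback p c
    obtain ⟨i, hP⟩ := exists_square t p sq
    exact (dim_eq_of_isPullback p c sq).symm.trans (h (AlgebraicClosure k) _ _ _ i hP).2.2
  · obtain ⟨j, hj⟩ := exists_isPullback t p t' X' q i hP
    exact ⟨h.1.geometrically_isReduced t' j q hj, h.2.1.geometrically_connectedSpace t' j q hj,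
      (dim_eq_of_isPullback p t' hj).trans h.2.2⟩

end Groth.Agent.GeomFibField
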