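import Groth.Agent.GeomFibField.Basic
import Groth.Agent.SmoothPt.Basic
import Mathlib.AlgebraicGeometry.AlgClosed.Basic

/-!
# Isolated singularities over a field, read on geometric fibres
-/

set_option autoImplicit false
set_option linter.style.haveILetI false
set_option backward.isDefEq.respectTransparency false
set_option backward.isDefEq.respectTransparency.types false

universe u

open CategoryTheory CategoryTheory.Limits AlgebraicGeometry

namespace Groth.Agent.GeomFibField

variable {S : Scheme.{u}} {k : Type u} [Field k] (t : Spec (CommRingCat.of k) ⟶ S)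
  {X : Scheme.{u}} (p : X ⟶ Spec (CommRingCat.of k))

theorem setOf_not_smooth_eq [LocallyOfFiniteType p] :
    {x : ↥X | ¬ ∃ U : X.Opens, x ∈ U ∧ Smooth (U.ι ≫ p)} = (p.smoothLocus : Set X)ᶜ :=
  Set.ext fun x => not_congr (Groth.Agent.Unram.smooth_nhd_iff p x)

theorem preimage_smoothLocus [LocallyOfFiniteType p] {K : Type u} [Field K]
    {t' : Spec (CommRingCat.of K) ⟶ Spec (CommRingCat.of k)} {X' : Scheme.{u}} {j : X' ⟶ X}
    {q : X' ⟶ Spec (CommRingCat.of K)} [LocallyOfFiniteType q] (h : IsPullback j q p t') :
    (q.smoothLocus : Set X')ᶜ = j ⁻¹' (p.smoothLocus : Set X)ᶜ := by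
  rw [SmoothPt.smoothLocus_baseChange p h (Or.inl inferInstance)]
  rfl

/-- The preimage of a closed point under an extension of the base field is finite. -/
theorem finite_preimage [LocallyOfFiniteType p] {K : Type u} [Field K]
    {t' : Spec (CommRingCat.of K) ⟶ Spec (CommRingCat.of k)} {X' : Scheme.{u}} {j : X' ⟶ X}
    {q : X' ⟶ Spec (CommRingCat.of K)} (h : IsPullback j q p t') {x : X}
    (hx : IsClosed ({x} : Set X)) : (j ⁻¹' {x}).Finite := by
  haveI : JacobsonSpace X := LocallyOfFiniteType.jacobsonSpace p
  haveI : IsFinite (X.fromSpecResidueField x ≫ p) := by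
    rw [isClosed_singleton_iff_isClosedImmersion] at hx
    rw [isFinite_iff_locallyOfFiniteType_of_jacobsonSpace]
    infer_instance
  let sq := (IsPullback.of_hasPullback j (X.fromSpecResidueField x)).paste_horiz h.flip
  haveI : IsFinite (pullback.fst j (X.fromSpecResidueField x) ≫ q) :=
    MorphismProperty.of_isPullback (P := @IsFinite) sq.flip ‹IsFinite (X.fromSpecResidueField x ≫ p)›
  have hfin : (Set.univ : Set ↥(j.fiber x)).Finite := by
    have := ((pullback.fst j (X.fromSpecResidueField x) ≫ q).finite_preimage_singleton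
      (IsLocalRing.closedPoint K))
    refine this.subset fun z _ => ?_
    exact Subsingleton.elim _ _
  rw [← Scheme.Hom.range_fiberι, ← Set.image_univ]
  exact hfin.image _

/-- Finiteness of the non-smooth locus over a field, read on geometric fibres. -/
theorem geomFib_isolated_iff [LocallyOfFiniteType p] :
    CurvSt.GeomFib (fun _ _ _ X' q _ => Set.Finite {x : ↥X' | ¬ ∃ U : X'.Opens, x ∈ U ∧ Smooth (U.ι ≫ q)})
      (fam t p) ↔ Set.Finite {x : ↥X | ¬ ∃ U : X.Opens, x ∈ U ∧ Smooth (U.ι ≫ p)} := by
  refine ⟨fun h => ?_, fun h Ω _ _ t' X' q i hP => ?_⟩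
  · let c : Spec (CommRingCat.of (AlgebraicClosure k)) ⟶ Spec (CommRingCat.of k) :=
      Spec.map (CommRingCat.ofHom (algebraMap k (AlgebraicClosure k)))
    haveI : Surjective c := ⟨fun x => ⟨IsLocalRing.closedPoint _, Subsingleton.elim _ _⟩⟩
    have sq := IsPullback.of_hasPullback p c
    obtain ⟨i, hP⟩ := exists_square t p sq
    have := h (AlgebraicClosure k) _ _ _ i hP
    simp only [setOf_not_smooth_eq] at this ⊢
    rw [preimage_smoothLocus p sq] at this
    exact (this.image (pullback.fst p c)).subset
      (Set.image_preimage_eq _ (MorphismProperty.pullback_fst (P := @Surjective) p c ‹_›).surj).ge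
  · obtain ⟨j, hj⟩ := exists_isPullback t p t' X' q i hP
    haveI : LocallyOfFiniteType q := MorphismProperty.of_isPullback (P := @LocallyOfFiniteType) hj ‹_›
    haveI : JacobsonSpace X := LocallyOfFiniteType.jacobsonSpace p
    simp only [setOf_not_smooth_eq] at h ⊢
    rw [preimage_smoothLocus p hj, ← Set.biUnion_of_singleton ((p.smoothLocus : Set X)ᶜ)]
    rw [Set.preimage_iUnion₂]
    refine h.biUnion fun x hx => finite_preimage p hj ?_
    let Z : Set X := (p.smoothLocus : Set X)ᶜ
    have hZ : IsClosed Z := p.smoothLocus.2.isClosed_compl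
    have hsub : Z ⊆ closedPoints X := by
      have hd : Finite Z := h
      have hcl := JacobsonSpace.closure_inter_closedPoints (Z := Z) hZ
      have hfin : IsClosed (Z ∩ closedPoints X) := by
        rw [← Set.biUnion_of_singleton (Z ∩ closedPoints X)]
        exact (h.subset Set.inter_subset_left).isClosed_biUnion fun y hy => hy.2
      rw [hfin.closure_eq] at hcl
      exact Set.inter_eq_left.1 hcl
    exact hsub hx

end Groth.Agent.GeomFibField
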