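import Groth.Agent.AlgSpLoc.GorensteinChart
import Groth.Agent.CMRel.Scheme
import Groth.Agent.AlgSpc.EtLocInst
import Groth.Agent.S9766
import Groth.Agent.S9767

/-!
# Cohen–Macaulay and Gorenstein morphisms to the spectrum of a field
-/

set_option autoImplicit false
set_option backward.isDefEq.respectTransparency false

universe u

open CategoryTheory CategoryTheory.Limits AlgebraicGeometry IsLocalRing

namespace Groth.Agent.GeomFibField

theorem isCMAt_etale_of {T U W V : Scheme.{u}} {h : U ⟶ V} {k : T ⟶ W} {p : T ⟶ U}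
    {r : W ⟶ V} [Etale p] [Etale r] [LocallyOfFiniteType h] (w : k ≫ r = p ≫ h) (t : T)
    (H : MoreMor.IsCMAt h (p t)) : MoreMor.IsCMAt k t := by
  have : LocallyOfFiniteType (k ≫ r) := by rw [w]; infer_instance
  have : LocallyOfFiniteType k := locallyOfFiniteType_of_comp k r
  have := AlgSpc.lqf_of_etale p
  have h1 : MoreMor.IsCMAt (p ≫ h) t := Groth.Agent.S9766.result p h t
    (FlatOverBC.isLocallyNoetherian_fiber _ _)
    (CMRel.isCMAt_of_locallyQuasiFinite p t (Flat.stalkMap _ _)) H
  rw [← w] at h1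
  exact (Groth.Agent.S9767.result k r t (FlatOverBC.isLocallyNoetherian_fiber _ _)
    (FlatOverBC.isLocallyNoetherian_fiber _ _) h1
    (AlgSpLoc.flat_cancel_etale k r t h1.1)).1

variable {K : Type u} [Field K] {X : Scheme.{u}} (p : X ⟶ Spec (CommRingCat.of K)) (x : X)

theorem isField_stalk : IsField ((Spec (CommRingCat.of K)).presheaf.stalk (p x)) := by
  let e := (Spec.stalkIso (CommRingCat.of K) (p x)).commRingCatIsoToRingEquiv
  have hP : (p x).asIdeal = ⊥ := (Ideal.eq_bot_or_top _).resolve_right (p x).2.ne_top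
  have : IsLocalization.AtPrime K (p x).asIdeal := by
    refine IsLocalization.self fun a ha => isUnit_iff_ne_zero.2 fun h => ?_
    exact ha (by simp [hP, h])
  exact ((IsLocalization.algEquiv (p x).asIdeal.primeCompl
    (Localization.AtPrime (p x).asIdeal) K).toRingEquiv.symm.trans e.symm).symm.toMulEquiv.isField
      (Field.toIsField K)

theorem flat_stalkMap : (p.stalkMap x).hom.Flat := by
  let : Field ((Spec (CommRingCat.of K)).presheaf.stalk (p x)) := (isField_stalk p x).toField
  let := (p.stalkMap x).hom.toAlgebra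
  change Module.Flat ((Spec (CommRingCat.of K)).presheaf.stalk (p x)) (X.presheaf.stalk x)
  infer_instance

theorem nonempty_fibre_equiv_stalk : Nonempty
    ((X.presheaf.stalk x ⧸ (maximalIdeal ((Spec (CommRingCat.of K)).presheaf.stalk (p x))).map
      (p.stalkMap x).hom) ≃+* X.presheaf.stalk x) := by
  have h : maximalIdeal ((Spec (CommRingCat.of K)).presheaf.stalk (p x)) = ⊥ :=
    IsLocalRing.isField_iff_maximalIdeal_eq.1 (isField_stalk p x)
  rw [h, Ideal.map_bot]
  exact ⟨RingEquiv.quotientBot _⟩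

theorem isCMAt_iff_stalk : MoreMor.IsCMAt p x ↔ LocCoh.IsCohenMacaulayLocalRing (X.presheaf.stalk x) := by
  obtain ⟨e⟩ := nonempty_fibre_equiv_stalk p x
  rw [FlatLocalDepth.isCMAt_iff]
  exact ⟨fun h => @FlatLocalDepth.isCohenMacaulayLocalRing_of_ringEquiv _ _ _ _ h.2 e,
    fun h => ⟨flat_stalkMap p x, @FlatLocalDepth.isCohenMacaulayLocalRing_of_ringEquiv _ _ _ _ h e.symm⟩⟩

theorem isGorensteinAt_iff_stalk :
    Dual3.IsGorensteinAt p x ↔ LocCoh.IsGorensteinLocalRing (X.presheaf.stalk x) := by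
  obtain ⟨e⟩ := nonempty_fibre_equiv_stalk p x
  rw [AlgSpLoc.isGorensteinAt_iff]
  exact ⟨fun h => GorenSG.gorenstein_of_ringEquiv e.symm h.2,
    fun h => ⟨flat_stalkMap p x, GorenSG.gorenstein_of_ringEquiv e h⟩⟩

end Groth.Agent.GeomFibField
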